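import Groth.Agent.Vancyc.H678.GenSimple
import Groth.Agent.Vancyc.H326.ChiLam
import Groth.Agent.Sga67.LocBasisStalk
import Groth.Agent.Fga.DimCut
import Mathlib.Algebra.MvPolynomial.Funext

/-!
# Simple zeros of a general linear combination of maps `E ⟶ O_Z`

`exists_simple`: `k` algebraically closed, `Z` integral of finite type over `k` of dimension `m`, `E` a module on `Z`,
`t l : E ⟶ O_Z` finitely many maps such that around every point there is a local basis `b` of `E` of length `m` over
an affine open `U`, in which the `t l` contain the coordinate functions and their multiples by functions generating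
the function field.  Then some `t : E ⟶ O_Z` has finitely many zeros, all of them simple.
-/

set_option autoImplicit false
universe u

open CategoryTheory CategoryTheory.Limits AlgebraicGeometry Opposite TopologicalSpace
open Groth.Agent.Sga67.Sec Groth.Agent.Sga67.LocBasis Groth.Agent.Sga67.LocBasisStalk
open Groth.Agent.Vancyc.H326.ChiLam

namespace Groth.Agent.Vancyc.H293.SimpleOf

section General

variable {X : Scheme.{u}}

theorem zeroIdeal_eq {r : ℕ} {G : X.Modules} (t : G ⟶ Coh.structureModule X) {W : X.Opens} {b : Fin r → Sec G W}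
    (hb : IsLocBasis b) {x : X} (hx : x ∈ W) :
    zeroIdeal t x = Ideal.span (Set.range fun i => gerO x hx (toO (appS t W (b i)))) := by
  apply le_antisymm
  · rw [zeroIdeal, Ideal.span_le]
    rintro _ ⟨V, hxV, s, rfl⟩
    obtain ⟨a, ha⟩ := (hb (V ⊓ W) inf_le_right).2 (res G inf_le_left s)
    have hx' : x ∈ V ⊓ W := ⟨hxV, hx⟩
    have h1 : gerO x hxV (toO (appS t V s)) =
        ∑ i, gerO x hx' (a i) * gerO x hx (toO (appS t W (b i))) := by
      rw [← gerO_res (inf_le_left : V ⊓ W ≤ V) x hx', ← toO_res, ← appS_res, ← ha, comb_apply, map_sum]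
      have h2 : gerO x hx' (toO (∑ i, appS t (V ⊓ W) (a i • res G inf_le_right (b i)))) =
          ∑ i, gerO x hx' (toO (appS t (V ⊓ W) (a i • res G inf_le_right (b i)))) :=
        map_sum (X.presheaf.germ (V ⊓ W) x hx').hom _ _
      rw [h2]
      refine Finset.sum_congr rfl fun i _ => ?_
      rw [map_smul, toO_smul, appS_res, toO_res, ← gerO_res (inf_le_right : V ⊓ W ≤ W) x hx']
      exact map_mul (X.presheaf.germ (V ⊓ W) x hx').hom _ _
    change gerO x hxV (toO (appS t V s)) ∈ _
    rw [h1]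
    exact Ideal.sum_mem _ fun i _ => Ideal.mul_mem_left _ _ (Ideal.subset_span ⟨i, rfl⟩)
  · rw [Ideal.span_le]
    rintro _ ⟨i, rfl⟩
    exact Ideal.subset_span ⟨W, hx, b i, rfl⟩

/-- multiplication by a global function -/
theorem exists_sc (a : Γ(X, ⊤)) : ∃ f : Coh.structureModule X ⟶ Coh.structureModule X,
    ∀ (V : X.Opens) (s : Sec (Coh.structureModule X) V), toO (appS f V s) = resO X le_top a * toO s := by
  obtain ⟨f, hf⟩ := exists_hom_unit (Coh.structureModule X) (show Sec (Coh.structureModule X) ⊤ from a)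
  refine ⟨f, fun V s => ?_⟩
  have h1 : s = toO s • one X V := (toO_smul_one s).symm
  conv_lhs => rw [h1]
  rw [map_smul, toO_smul, hf, mul_comm]
  rfl

theorem appS_sum {M N : X.Modules} {ι : Type*} (S : Finset ι) (f : ι → (M ⟶ N)) (U : X.Opens) (s : Sec M U) :
    appS (∑ i ∈ S, f i) U s = ∑ i ∈ S, appS (f i) U s := by
  classical
  induction S using Finset.induction_on with
  | empty => rw [Finset.sum_empty, Finset.sum_empty, appS_zero]
  | insert a S ha ih => rw [Finset.sum_insert ha, Finset.sum_insert ha, appS_add, ih]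

/-- linear combinations -/
theorem exists_comb {E : X.Modules} {L : Type*} [Fintype L] (t : L → (E ⟶ Coh.structureModule X))
    (c : L → Γ(X, ⊤)) : ∃ f : E ⟶ Coh.structureModule X,
    ∀ (V : X.Opens) (s : Sec E V), toO (appS f V s) = ∑ l, resO X le_top (c l) * toO (appS (t l) V s) := by
  choose g hg using fun l => exists_sc (c l)
  refine ⟨∑ l, t l ≫ g l, fun V s => ?_⟩
  rw [appS_sum]
  have h2 : toO (∑ l, appS (t l ≫ g l) V s) = ∑ l, toO (appS (t l ≫ g l) V s) :=
    map_sum (AddMonoidHom.id Γ(X, V)) (fun l => (appS (t l ≫ g l) V s : Γ(X, V))) _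
  rw [h2]
  exact Finset.sum_congr rfl fun l _ => by rw [appS_comp, hg]

end General

section Ring

variable {k R : Type u} [Field k] [CommRing R] [Algebra k R] [Algebra.FiniteType k R] (I : Ideal R)
  [Algebra.FormallyUnramified k (R ⧸ I)]

include k

theorem map_eq_maximalIdeal {p : Ideal R} [p.IsPrime] (hI : I ≤ p) (S : Type u) [CommRing S] [Algebra R S]
    [IsLocalRing S] [IsLocalization.AtPrime S p] : I.map (algebraMap R S) = IsLocalRing.maximalIdeal S := by
  have h1 : p.map (algebraMap R S) = IsLocalRing.maximalIdeal S :=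
    IsLocalization.AtPrime.map_eq_maximalIdeal p S
  rw [← h1]
  apply le_antisymm (Ideal.map_mono hI)
  rw [Ideal.map_le_iff_le_comap]
  intro x hx
  obtain ⟨s, hs, hsx⟩ := Groth.Agent.Vancyc.H678.GenSimple.exists_notMem_mul_mem (k := k) I ‹_› hI hx
  have hu : IsUnit (algebraMap R S s) := IsLocalization.map_units S (⟨s, hs⟩ : p.primeCompl)
  rw [Ideal.mem_comap, ← Ideal.unit_mul_mem_iff_mem _ hu, ← map_mul]
  exact Ideal.mem_map_of_mem _ hsx

end Ring

theorem isRegularLocalRing_of_span {S : Type*} [CommRing S] [IsLocalRing S] [IsNoetherianRing S] {m : ℕ}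
    (hd : ringKrullDim S = m) (a : Fin m → S) (ha : Ideal.span (Set.range a) = IsLocalRing.maximalIdeal S) :
    IsRegularLocalRing S := by
  apply IsRegularLocalRing.of_spanFinrank_maximalIdeal_le
  rw [hd, ← ha]
  have h1 := Submodule.spanFinrank_span_le_ncard_of_finite (R := S) (Set.finite_range a)
  have h2 : (Set.range a).ncard ≤ m := by
    rw [← Set.image_univ]
    refine (Set.ncard_image_le Set.finite_univ).trans ?_
    rw [Set.ncard_univ, Nat.card_eq_fintype_card, Fintype.card_fin]
  exact_mod_cast h1.trans h2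

section Chart

variable (k : Type u) [Field k] {Z : Scheme.{u}} (p : Z ⟶ Spec (CommRingCat.of k))

/-- the constants -/
noncomputable def cst : k →+* Γ(Z, ⊤) :=
  p.appTop.hom.comp (Scheme.ΓSpecIso (CommRingCat.of k)).inv.hom

/-- the structure map of the functions on an open -/
noncomputable def str (U : Z.Opens) : k →+* Γ(Z, U) := (resO Z le_top).comp (cst k p)

theorem finiteType_str [LocallyOfFiniteType p] {U : Z.Opens} (hU : IsAffineOpen U) :
    (str k p U).FiniteType := by
  have h1 : (p.appLE ⊤ U le_top).hom.FiniteType :=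
    (HasRingHomProperty.iff_appLE (P := @LocallyOfFiniteType) (f := p)).1 inferInstance
      ⟨⊤, isAffineOpen_top _⟩ ⟨U, hU⟩ le_top
  have h2 : str k p U = (p.appLE ⊤ U le_top).hom.comp (Scheme.ΓSpecIso (CommRingCat.of k)).inv.hom := by
    rw [Scheme.Hom.appLE]
    rfl
  rw [h2]
  exact h1.comp (RingHom.FiniteType.of_surjective _
    (Scheme.ΓSpecIso (CommRingCat.of k)).symm.commRingCatIsoToRingEquiv.surjective)

theorem jacobsonSpace [LocallyOfFiniteType p] : JacobsonSpace Z :=
  LocallyOfFiniteType.jacobsonSpace p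

/-- analysis of one chart -/
theorem chart [LocallyOfFiniteType p] [IsIntegral Z] [IsLocallyNoetherian Z] {m : ℕ} (hm : topologicalKrullDim Z = m)
    {U : Z.Opens} (hU : IsAffineOpen U) {E : Z.Modules} (t : E ⟶ Coh.structureModule Z) {b : Fin m → Sec E U}
    (hb : IsLocBasis b)
    (hun : letI := (str k p U).toAlgebra
      Algebra.FormallyUnramified k (Γ(Z, U) ⧸ Ideal.span (Set.range fun i => toO (appS t U (b i))))) :
    {z : Z | z ∈ U ∧ zeroIdeal t z ≠ ⊤}.Finite ∧
      ∀ z ∈ U, zeroIdeal t z ≠ ⊤ → IsClosed ({z} : Set Z) ∧ IsSimpleZero t z := by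
  let := (str k p U).toAlgebra
  have : Algebra.FiniteType k Γ(Z, U) := finiteType_str k p hU
  haveI := hun
  let I : Ideal Γ(Z, U) := Ideal.span (Set.range fun i => toO (appS t U (b i)))
  have hI : ∀ (z : Z) (hz : z ∈ U), zeroIdeal t z = I.map (Z.presheaf.germ U z hz).hom := by
    intro z hz
    rw [zeroIdeal_eq t hb hz, Ideal.map_span, ← Set.range_comp]
    rfl
  have hle : ∀ (z : Z) (hz : z ∈ U), zeroIdeal t z ≠ ⊤ → I ≤ (hU.primeIdealOf ⟨z, hz⟩).asIdeal := by
    intro z hz hne x hx
    by_contra hxp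
    apply hne
    letI := (Z.presheaf.germ U z hz).hom.toAlgebra
    haveI := hU.isLocalization_stalk ⟨z, hz⟩
    rw [hI z hz]
    refine Ideal.eq_top_of_isUnit_mem _ (Ideal.mem_map_of_mem _ hx) ?_
    exact IsLocalization.map_units (Z.presheaf.stalk z) (⟨x, hxp⟩ : (hU.primeIdealOf ⟨z, hz⟩).asIdeal.primeCompl)
  refine ⟨?_, fun z hz hne => ?_⟩
  · have h1 := Groth.Agent.Vancyc.H678.GenSimple.finite_primes (k := k) I
    refine (h1.image fun q => hU.fromSpec.base q).subset ?_
    rintro z ⟨hz, hne⟩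
    exact ⟨hU.primeIdealOf ⟨z, hz⟩, hle z hz hne, hU.fromSpec_primeIdealOf ⟨z, hz⟩⟩
  · have hJ : JacobsonSpace Z := jacobsonSpace k p
    have hmax : (hU.primeIdealOf ⟨z, hz⟩).asIdeal.IsMaximal :=
      Groth.Agent.Vancyc.H678.GenSimple.isMaximal_of_le (k := k) I (hU.primeIdealOf ⟨z, hz⟩).isPrime (hle z hz hne)
    have hcl : IsClosed ({z} : Set Z) := by
      apply isClosed_singleton_of_isLocallyClosed_singleton
      have h2 : IsClosed ({hU.primeIdealOf ⟨z, hz⟩} : Set (Spec Γ(Z, U))) :=
        (PrimeSpectrum.isClosed_singleton_iff_isMaximal _).2 hmax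
      have h3 := h2.isLocallyClosed.image hU.fromSpec.isOpenEmbedding.isInducing
        hU.fromSpec.isOpenEmbedding.isOpen_range.isLocallyClosed
      have h4 : (hU.fromSpec '' {hU.primeIdealOf ⟨z, hz⟩} : Set Z) = {z} :=
        Set.image_singleton.trans (congrArg singleton (hU.fromSpec_primeIdealOf ⟨z, hz⟩))
      rw [← h4]
      exact h3
    refine ⟨hcl, ?_⟩
    letI := (Z.presheaf.germ U z hz).hom.toAlgebra
    haveI := hU.isLocalization_stalk ⟨z, hz⟩
    have h5 : zeroIdeal t z = IsLocalRing.maximalIdeal (Z.presheaf.stalk z) := by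
      rw [hI z hz]
      exact map_eq_maximalIdeal (k := k) I (hle z hz hne) (Z.presheaf.stalk z)
    refine ⟨?_, h5⟩
    letI : Z.Over (Spec (CommRingCat.of k)) := ⟨p⟩
    haveI : LocallyOfFiniteType (Z ↘ (Spec (CommRingCat.of k))) := ‹LocallyOfFiniteType p›
    have h6 : ringKrullDim (Z.presheaf.stalk z) = m := by
      rw [Groth.Agent.Fga.DimCut.ringKrullDim_stalk_eq k Z z hcl, hm]
    refine isRegularLocalRing_of_span h6 (fun i => gerO z hz (toO (appS t U (b i)))) ?_
    rw [← zeroIdeal_eq t hb hz, h5]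

end Chart

section Main

variable (k : Type u) [Field k] {Z : Scheme.{u}} (p : Z ⟶ Spec (CommRingCat.of k)) [IsIntegral Z]

/-- The data needed around a point. -/
def HasData {E : Z.Modules} {L : Type} (t : L → (E ⟶ Coh.structureModule Z)) (m : ℕ) (z : Z) : Prop :=
  ∃ (U : Z.affineOpens) (_ : z ∈ U.1) (b : Fin m → Sec E U.1) (_ : IsLocBasis b) (s : Fin m → L) (κ : Type)
    (x : κ → Γ(Z, U.1)), (∀ i j, toO (appS (t (s i)) U.1 (b j)) = if i = j then 1 else 0) ∧
    (∀ q i, ∃ l, ∀ j, toO (appS (t l) U.1 (b j)) = if i = j then x q else 0) ∧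
    ∀ [Nonempty U.1] (K : Subfield Z.functionField),
      (∀ a : k, (Z.germToFunctionField U.1).hom (str k p U.1 a) ∈ K) →
      (∀ q, (Z.germToFunctionField U.1).hom (x q) ∈ K) → K = ⊤

variable [IsAlgClosed k] [LocallyOfFiniteType p]

omit [IsAlgClosed k] in
include p in
theorem ringKrullDim_eq {m : ℕ} (hm : topologicalKrullDim Z = m) {U : Z.Opens} (hU : IsAffineOpen U)
    (hne : (U : Set Z).Nonempty) : ringKrullDim Γ(Z, U) = m := by
  letI : Z.Over (Spec (CommRingCat.of k)) := ⟨p⟩
  haveI : LocallyOfFiniteType (Z ↘ (Spec (CommRingCat.of k))) := ‹LocallyOfFiniteType p›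
  rw [← hm, ← Groth.Agent.S1618.result k Z U hne, ← PrimeSpectrum.topologicalKrullDim_eq_ringKrullDim]
  exact (IsHomeomorph.topologicalKrullDim_eq _ hU.isoSpec.hom.homeomorph.isHomeomorph).symm

theorem exists_poly {E : Z.Modules} {L : Type} [Fintype L] (t : L → (E ⟶ Coh.structureModule Z)) {m : ℕ}
    (hm : topologicalKrullDim Z = m) {U : Z.affineOpens} [Nonempty U.1] {b : Fin m → Sec E U.1} (s : Fin m → L)
    {κ : Type} (x : κ → Γ(Z, U.1)) (h1 : ∀ i j, toO (appS (t (s i)) U.1 (b j)) = if i = j then 1 else 0)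
    (h2 : ∀ q i, ∃ l, ∀ j, toO (appS (t l) U.1 (b j)) = if i = j then x q else 0)
    (h3 : ∀ (K : Subfield Z.functionField), (∀ a : k, (Z.germToFunctionField U.1).hom (str k p U.1 a) ∈ K) →
      (∀ q, (Z.germToFunctionField U.1).hom (x q) ∈ K) → K = ⊤) :
    ∃ h : MvPolynomial L k, h ≠ 0 ∧ ∀ c : L → k, MvPolynomial.eval c h ≠ 0 →
      (letI := (str k p U.1).toAlgebra
      Algebra.FormallyUnramified k (Γ(Z, U.1) ⧸ Ideal.span (Set.range fun i : Fin m =>
        ∑ l, str k p U.1 (c l) * toO (appS (t l) U.1 (b i))))) := by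
  letI := (str k p U.1).toAlgebra
  haveI : Algebra.FiniteType k Γ(Z, U.1) := finiteType_str k p U.2
  haveI : IsDomain Γ(Z, U.1) := inferInstance
  letI : Algebra k Z.functionField := ((Z.germToFunctionField U.1).hom.comp (str k p U.1)).toAlgebra
  haveI : IsScalarTower k Γ(Z, U.1) Z.functionField := IsScalarTower.of_algebraMap_eq' rfl
  haveI := functionField_isFractionRing_of_isAffineOpen Z U.1 U.2
  have hdim : ringKrullDim Γ(Z, U.1) = Fintype.card (Fin m) := by
    rw [Fintype.card_fin]
    exact ringKrullDim_eq k p hm U.2 (Set.nonempty_coe_sort.1 ‹Nonempty U.1›)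
  have hgen : IntermediateField.adjoin k (Set.range fun q => algebraMap Γ(Z, U.1) Z.functionField (x q)) = ⊤ := by
    have h4 := h3 (IntermediateField.adjoin k
      (Set.range fun q => algebraMap Γ(Z, U.1) Z.functionField (x q))).toSubfield
      (fun a => (IntermediateField.adjoin k
        (Set.range fun q => algebraMap Γ(Z, U.1) Z.functionField (x q))).algebraMap_mem a)
      (fun q => IntermediateField.subset_adjoin k _ ⟨q, rfl⟩)
    rw [eq_top_iff]
    intro y _
    have h5 : y ∈ (⊤ : Subfield Z.functionField) := trivial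
    rw [← h4] at h5
    exact h5
  exact Groth.Agent.Vancyc.H678.GenSimple.exists_poly hdim Z.functionField
    (fun l i => toO (appS (t l) U.1 (b i))) s
    (fun i => by
      funext j
      rw [h1, Pi.single_apply]
      exact if_congr eq_comm rfl rfl) x
    (fun q i => by
      obtain ⟨l, hl⟩ := h2 q i
      refine ⟨l, ?_⟩
      funext j
      rw [hl, Pi.single_apply]
      exact if_congr eq_comm rfl rfl) hgen

/-- **Simple zeros.** -/
theorem exists_simple [CompactSpace Z] [IsLocallyNoetherian Z] {E : Z.Modules} {L : Type} [Fintype L]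
    (t : L → (E ⟶ Coh.structureModule Z)) {m : ℕ} (hm : topologicalKrullDim Z = m)
    (H : ∀ z : Z, HasData k p t m z) :
    ∃ (f : E ⟶ Coh.structureModule Z) (F : Finset Z),
      (∀ z ∈ F, IsClosed ({z} : Set Z) ∧ IsSimpleZero f z) ∧ ∀ z ∉ F, zeroIdeal f z = ⊤ := by
  classical
  choose U hzU b hb s κ x h1 h2 h3 using H
  have hne : ∀ z, Nonempty (U z).1 := fun z => ⟨⟨z, hzU z⟩⟩
  choose h hh0 hh using fun z => exists_poly k p t hm (s z) (x z) (h1 z) (h2 z) (h3 z)
  obtain ⟨S, -, hS⟩ := isCompact_univ.elim_nhds_subcover (fun z : Z => ((U z).1 : Set Z))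
    fun z _ => (U z).1.isOpen.mem_nhds (hzU z)
  have hprod : ∏ z ∈ S, h z ≠ 0 := Finset.prod_ne_zero_iff.2 fun z _ => hh0 z
  obtain ⟨c, hc⟩ : ∃ c : L → k, MvPolynomial.eval c (∏ z ∈ S, h z) ≠ 0 := by
    by_contra hcon
    push Not at hcon
    exact hprod (MvPolynomial.funext fun c => by rw [hcon, map_zero])
  rw [map_prod, Finset.prod_ne_zero_iff] at hc
  obtain ⟨f, hf⟩ := exists_comb t (fun l => cst k p (c l))
  have key : ∀ z ∈ S, {w : Z | w ∈ (U z).1 ∧ zeroIdeal f w ≠ ⊤}.Finite ∧
      ∀ w ∈ (U z).1, zeroIdeal f w ≠ ⊤ → IsClosed ({w} : Set Z) ∧ IsSimpleZero f w := by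
    intro z hz
    refine chart k p hm (U z).2 f (hb z) ?_
    have h4 := hh z c (hc z hz)
    have h5 : (fun i => toO (appS f (U z).1 (b z i))) =
        fun i => ∑ l, str k p (U z).1 (c l) * toO (appS (t l) (U z).1 (b z i)) := by
      funext i
      rw [hf]
      rfl
    rw [h5]
    exact h4
  have hfin : {w : Z | zeroIdeal f w ≠ ⊤}.Finite := by
    refine (S.finite_toSet.biUnion fun z hz => (key z hz).1).subset fun w hw => ?_
    obtain ⟨z, hz, hwz⟩ := Set.mem_iUnion₂.1 (hS (Set.mem_univ w))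
    exact Set.mem_iUnion₂.2 ⟨z, hz, hwz, hw⟩
  refine ⟨f, hfin.toFinset, fun w hw => ?_, fun w hw => ?_⟩
  · rw [Set.Finite.mem_toFinset] at hw
    obtain ⟨z, hz, hwz⟩ := Set.mem_iUnion₂.1 (hS (Set.mem_univ w))
    exact (key z hz).2 w hwz hw
  · rw [Set.Finite.mem_toFinset] at hw
    exact not_not.1 hw

end Main

end Groth.Agent.Vancyc.H293.SimpleOf
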