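import Groth.Agent.Vancyc.H293.SimpleOf
import Groth.Agent.Ega3B.ProjProper
import Groth.Prelude.Def_Twist2

/-!
# (Simple) from the data of sections

`simple_of`: the statement `H175.B3Asm.SimpleStmt k` (unfolded) from the existence of sections with `HasData`.
-/

set_option autoImplicit false
universe u

open CategoryTheory CategoryTheory.Limits AlgebraicGeometry Opposite TopologicalSpace
open Groth.Agent.Vancyc.H326.ChiLam

namespace Groth.Agent.Vancyc.H293.SimpleAsm

open SimpleOf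

/-- the data statement (S1) -/
def DataStmt (k : Type u) [Field k] : Prop :=
  ∀ (r : ℕ) (Z : Scheme.{u}) [IsIntegral Z] (i : Z ⟶ CohB1.ProjSpace r k) [IsClosedImmersion i] (m : ℕ)
    (G : Z.Modules), FlatMod.IsFinLocFreeOfRank m G →
    ∃ M₀ : ℕ, ∀ M : ℕ, M₀ ≤ M →
      ∃ (L : Type) (_ : Fintype L)
        (t : L → (CohB1.tensorMod G ((Scheme.Modules.pullback i).obj (Twist.twistProjSpace r k (-(M : ℤ)))) ⟶
          Coh.structureModule Z)), ∀ z : Z, HasData k (i ≫ CohB1.ProjSpace.toSpec r k) t m z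

theorem simple_of (k : Type u) [Field k] [IsAlgClosed k] (H : DataStmt k) :
    ∀ (r : ℕ) (Z : Scheme.{u}) [IsIntegral Z] (i : Z ⟶ CohB1.ProjSpace r k) [IsClosedImmersion i] (m : ℕ)
    (G : Z.Modules), FlatMod.IsFinLocFreeOfRank m G → topologicalKrullDim Z = m →
    ∃ M₀ : ℕ, ∀ M : ℕ, M₀ ≤ M →
      ∃ (t : CohB1.tensorMod G ((Scheme.Modules.pullback i).obj (Twist.twistProjSpace r k (-(M : ℤ)))) ⟶
          Coh.structureModule Z) (F : Finset Z),
        (∀ z ∈ F, IsClosed ({z} : Set Z) ∧ IsSimpleZero t z) ∧ ∀ z ∉ F, zeroIdeal t z = ⊤ := by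
  intro r Z _ i _ m G hG hm
  have hP : IsProper (CohB1.ProjSpace.toSpec r k) := Groth.Agent.Ega3B.ProjProper.isProper_toSpec r k
  have hp : IsProper (i ≫ CohB1.ProjSpace.toSpec r k) := inferInstance
  have hc : CompactSpace Z := by
    have h1 : CompactSpace (Spec (CommRingCat.of k)) := inferInstance
    exact QuasiCompact.compactSpace_of_compactSpace (i ≫ CohB1.ProjSpace.toSpec r k)
  have hn : IsLocallyNoetherian Z := LocallyOfFiniteType.isLocallyNoetherian (i ≫ CohB1.ProjSpace.toSpec r k)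
  obtain ⟨M₀, hM₀⟩ := H r Z i m G hG
  refine ⟨M₀, fun M hM => ?_⟩
  obtain ⟨L, _, t, ht⟩ := hM₀ M hM
  exact exists_simple k (i ≫ CohB1.ProjSpace.toSpec r k) t hm ht

end Groth.Agent.Vancyc.H293.SimpleAsm
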